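import Groth.Agent.CAlgSmall.NormalFactor
import Groth.Agent.H8Lim.BiratNormal
import Groth.Agent.S2351

/-!
# Characterisation of the normalization of an integral scheme
-/

set_option autoImplicit false
set_option backward.isDefEq.respectTransparency.types false

universe u

namespace Groth.Agent.NormCrit3

open CategoryTheory CategoryTheory.Limits AlgebraicGeometry TopologicalSpace

variable {X : Scheme.{u}} [AlgebraicGeometry.IsIntegral X]
  [QuasiCompact (X.fromSpecStalk (genericPoint X))] [QuasiSeparated (X.fromSpecStalk (genericPoint X))]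
  {Y : Scheme.{u}}

theorem isIntegral_of_normal [IrreducibleSpace Y] (hY : Pi1.IsNormalScheme Y) : AlgebraicGeometry.IsIntegral Y := by
  have : ∀ y : Y, _root_.IsReduced (Y.presheaf.stalk y) := fun y => by
    have := (hY y).1; infer_instance
  have := isReduced_of_isReduced_stalk (X := Y)
  exact isIntegral_of_irreducibleSpace_of_isReduced Y

section Iso

open CAlgSmall.NormalFactor in
theorem isIso_over [AlgebraicGeometry.IsIntegral Y] (f : Y ⟶ X) (h : Y ⟶ Curv2.normalization X)
    (hfac : h ≫ Curv2.normalizationι X = f) [IsIntegralHom f]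
    (hN : ∀ y : Y, IsIntegrallyClosed (Y.presheaf.stalk y))
    (hη : f (genericPoint Y) = genericPoint X) [IsIso (f.stalkMap (genericPoint Y))] : IsIso h := by
  let ι := Curv2.normalizationι X
  have : IsIntegralHom ι := inferInstanceAs (IsIntegralHom (X.fromSpecStalk (genericPoint X)).fromNormalization)
  have : IsAffineHom (h ≫ ι) := by rw [hfac]; infer_instance
  have : IsAffineHom h := IsAffineHom.of_comp h ι
  let U : {U : X.affineOpens // (U.1 : Set X).Nonempty} → X.Opens := fun U => U.1.1
  refine (IsZariskiLocalAtTarget.iff_of_iSup_eq_top (P := MorphismProperty.isomorphisms Scheme)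
    (fun U' => ι ⁻¹ᵁ U U') (eq_top_iff.2 fun z _ => ?_)).2 fun U' => ?_
  · obtain ⟨_, ⟨V, hV, rfl⟩, hzV, -⟩ :=
      X.isBasis_affineOpens.exists_subset_of_mem_open (Set.mem_univ (ι z)) isOpen_univ
    exact Opens.mem_iSup.2 ⟨⟨⟨V, hV⟩, ⟨_, hzV⟩⟩, hzV⟩
  obtain ⟨⟨U, hU⟩, hne⟩ := U'
  have : Nonempty U := hne.to_subtype
  rw [MorphismProperty.isomorphisms.iff, isIso_morphismRestrict_iff_isIso_app h (U := ι ⁻¹ᵁ U) (hU.preimage ι),
    ConcreteCategory.isIso_iff_bijective]
  subst hfac
  have hV : IsAffineOpen ((h ≫ ι) ⁻¹ᵁ U) := hU.preimage _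
  have hηU : (h ≫ ι) (genericPoint Y) ∈ U := hη ▸ (genericPoint_specializes _).mem_open U.2 hne.some_mem
  let τ : X.functionField ⟶ Y.presheaf.stalk (genericPoint Y) :=
    X.presheaf.stalkSpecializes (hη ▸ specializes_rfl) ≫ (h ≫ ι).stalkMap (genericPoint Y)
  have : IsIso (X.presheaf.stalkSpecializes (show (h ≫ ι) (genericPoint Y) ⤳ genericPoint X from hη ▸ specializes_rfl)) :=
    (TopCat.Presheaf.stalkCongr _ (.of_eq hη)).isIso_inv
  have : IsIso τ := inferInstanceAs (IsIso (_ ≫ _))
  let σ : Γ(Y, (h ≫ ι) ⁻¹ᵁ U) ⟶ X.functionField := Y.presheaf.germ _ (genericPoint Y) hηU ≫ inv τ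
  have hσ : ∀ a, σ ((h ≫ ι).app U a) = X.germToFunctionField U a := fun a => by
    apply (ConcreteCategory.bijective_of_isIso τ).1
    refine (show τ (inv τ (Y.presheaf.germ _ (genericPoint Y) hηU ((h ≫ ι).app U a))) =
      Y.presheaf.germ _ (genericPoint Y) hηU ((h ≫ ι).app U a) by
        rw [← ConcreteCategory.comp_apply, IsIso.inv_hom_id]; rfl).trans ?_
    show _ = (h ≫ ι).stalkMap (genericPoint Y) (X.presheaf.stalkSpecializes _ _)
    erw [TopCat.Presheaf.germ_stalkSpecializes_apply, Scheme.Hom.germ_stalkMap_apply]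
  have hσi : Function.Injective σ :=
    (ConcreteCategory.bijective_of_isIso (inv τ)).1.comp (germ_injective_of_isIntegral Y (genericPoint Y) hηU)
  have key : ∀ v, σ (h.app (ι ⁻¹ᵁ U) v) = nK U hU v := by
    intro v
    obtain ⟨a, b, hb, hab⟩ := exists_frac U hU v
    have hb0 : X.germToFunctionField U b ≠ 0 :=
      fun e => hb (Scheme.germToFunctionField_injective X U (e.trans (map_zero _).symm))
    refine mul_right_cancel₀ hb0 (hab.symm ▸ ?_)
    have e : nK U hU (v * ι.app U b) = nK U hU (ι.app U a) := by rw [map_mul, nK_app, nK_app, hab]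
    have e' := congrArg (fun w => σ (h.app (ι ⁻¹ᵁ U) w)) (nK_inj U hU e)
    simp only [map_mul] at e'
    rw [← hσ a, ← hσ b]
    exact (map_mul σ.hom _ _).symm.trans e'
  refine ⟨fun v w e => nK_inj U hU (by rw [← key, ← key]; exact congrArg σ e), fun b => ?_⟩
  have hint : (X.germToFunctionField U).hom.IsIntegralElem (σ b) := by
    obtain ⟨p, hp, hpb⟩ := (h ≫ ι).isIntegral_app U hU b
    refine ⟨p, hp, ?_⟩
    have e : (X.germToFunctionField U).hom = σ.hom.comp ((h ≫ ι).app U).hom := RingHom.ext fun a => (hσ a).symm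
    rw [e, ← Polynomial.hom_eval₂, hpb, map_zero]
  obtain ⟨v, hv⟩ := (NormalizationLib.mem_range_normToK (RingHom.id X.functionField)
    (X.fromSpecStalk (genericPoint X)) hgen U hU (σ b)).mpr hint
  exact ⟨v, hσi ((key v).trans hv)⟩

end Iso

open CAlgSmall.NormalFactor in
theorem iff (f : Y ⟶ X) :
    (∃ e : Y ≅ Curv2.normalization X, e.hom ≫ Curv2.normalizationι X = f) ↔
      Pi1.IsNormalScheme Y ∧ IsIntegralHom f ∧
        ∃ _ : IrreducibleSpace ↥Y, f.base ⁻¹' {genericPoint X} = {genericPoint Y} ∧
          IsIso (f.stalkMap (genericPoint Y)) := by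
  constructor
  · rintro ⟨e, rfl⟩
    obtain ⟨hint, hnorm, -, hη, -⟩ := S2351.result X
    let ι := Curv2.normalizationι X
    have : IsIntegralHom ι := inferInstanceAs (IsIntegralHom (X.fromSpecStalk (genericPoint X)).fromNormalization)
    have hY : Pi1.IsNormalScheme Y := fun y => by
      let r : (Curv2.normalization X).presheaf.stalk (e.hom y) ≃+* Y.presheaf.stalk y :=
        (asIso (e.hom.stalkMap y)).commRingCatIsoToRingEquiv
      have := (hnorm (e.hom y)).1
      have := (hnorm (e.hom y)).2
      exact ⟨r.toMulEquiv.isDomain_iff.mp inferInstance, IsIntegrallyClosed.of_equiv r⟩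
    have hY' : AlgebraicGeometry.IsIntegral Y := by
      have : Nonempty Y := ⟨e.inv (genericPoint (Curv2.normalization X))⟩
      exact isIntegral_of_isOpenImmersion e.hom
    have hg : e.hom (genericPoint Y) = genericPoint (Curv2.normalization X) :=
      ((genericPoint_spec Y).image e.hom.continuous).eq (by
        rw [Set.image_univ, Set.range_eq_univ.2 (ConcreteCategory.bijective_of_isIso e.hom.base).2, closure_univ]
        exact genericPoint_spec _)
    refine ⟨hY, inferInstance, inferInstance, ?_, ?_⟩
    · ext y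
      show (e.hom ≫ ι) y = genericPoint X ↔ y = genericPoint Y
      rw [Scheme.Hom.comp_apply]
      refine ⟨fun hy => ?_, fun hy => by rw [hy, hg]; exact hη⟩
      apply e.hom.isOpenEmbedding.injective
      rw [hg]
      exact (Set.ext_iff.1 (NormalizationLib.preimage_genericPoint (RingHom.id X.functionField)
        (X.fromSpecStalk (genericPoint X)) hgen) (e.hom y)).1 hy
    · have : IsIso (ι.stalkMap (e.hom (genericPoint Y))) := by
        rw [hg, ConcreteCategory.isIso_iff_bijective]
        refine ⟨?_, ?_⟩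
        · have : IsField (X.presheaf.stalk (ι (genericPoint (Curv2.normalization X)))) := by
            rw [show ι (genericPoint (Curv2.normalization X)) = genericPoint X from hη]
            exact Field.toIsField X.functionField
          letI := this.toField
          exact RingHom.injective (ι.stalkMap (genericPoint (Curv2.normalization X))).hom
        · have key : ∀ z, z = (X.fromSpecStalk (genericPoint X)).toNormalization (IsLocalRing.closedPoint _) →
              Function.Surjective (ι.stalkMap z).hom := by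
            rintro z rfl
            exact NormalizationLib.surjective_stalkMap (φ := RingHom.id X.functionField) _ hgen Function.surjective_id
          exact key _ (NormalizationLib.toNormalization_closedPoint _).symm
      rw [Scheme.Hom.stalkMap_comp]
      exact @IsIso.comp_isIso _ _ _ _ _ _ _ this inferInstance
  · rintro ⟨hY, hf, hirr, hpre, hiso⟩
    have := hirr
    have := hf
    have := hiso
    have := isIntegral_of_normal hY
    have hη : f (genericPoint Y) = genericPoint X :=
      (Set.ext_iff.1 hpre (genericPoint Y)).2 rfl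
    obtain ⟨h, hh, -⟩ := existsUnique_fac (g := f) fun z => ⟨hY z, genericPoint Y, genericPoint_specializes z, hη⟩
    have := isIso_over f h hh (fun y => (hY y).2) hη
    exact ⟨asIso h, hh⟩

theorem iff_birational
    (hV : ∃ V : X.Opens, (V : Set ↥X).Nonempty ∧ ∀ x ∈ V, IsIntegrallyClosed (X.presheaf.stalk x))
    (f : Y ⟶ X) :
    (∃ e : Y ≅ Curv2.normalization X, e.hom ≫ Curv2.normalizationι X = f) ↔
      Pi1.IsNormalScheme Y ∧ IsIntegralHom f ∧
        ∃ U : X.Opens, Dense (U : Set ↥X) ∧ Dense ((f ⁻¹ᵁ U : Y.Opens) : Set ↥Y) ∧ IsIso (f ∣_ U) := by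
  constructor
  · intro h
    obtain ⟨hY, hf, hirr, hpre, hiso⟩ := (iff f).1 h
    refine ⟨hY, hf, ?_⟩
    obtain ⟨V, ⟨x, hx⟩, hVn⟩ := hV
    obtain ⟨_, ⟨U, hU, rfl⟩, hxU, hUV⟩ := X.isBasis_affineOpens.exists_subset_of_mem_open hx V.2
    have hne : (U : Set X).Nonempty := ⟨x, hxU⟩
    have := hirr
    refine ⟨U, U.2.dense hne, (f ⁻¹ᵁ U).2.dense ⟨genericPoint Y, ?_⟩, ?_⟩
    · show f (genericPoint Y) ∈ U
      rw [(Set.ext_iff.1 hpre (genericPoint Y)).2 rfl]
      exact (genericPoint_specializes _).mem_open U.2 hxU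
    obtain ⟨e, rfl⟩ := h
    have : IsAffineHom (Curv2.normalizationι X) :=
      inferInstanceAs (IsAffineHom (X.fromSpecStalk (genericPoint X)).fromNormalization)
    have hUne : Nonempty U := hne.to_subtype
    have : IsIso (Curv2.normalizationι X ∣_ U) := by
      rw [isIso_morphismRestrict_iff_isIso_app _ hU, ConcreteCategory.isIso_iff_bijective]
      refine ⟨fun a b hab => ?_, fun v => ?_⟩
      · apply Scheme.germToFunctionField_injective X U
        rw [← CAlgSmall.NormalFactor.nK_app U hU a, ← CAlgSmall.NormalFactor.nK_app U hU b]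
        exact congrArg _ hab
      · have hint := (NormalizationLib.mem_range_normToK (RingHom.id X.functionField)
          (X.fromSpecStalk (genericPoint X)) CAlgSmall.NormalFactor.hgen U hU _).mp ⟨v, rfl⟩
        have hN : ∀ p : (U : Scheme.{u}), IsIntegrallyClosed ((U : Scheme.{u}).presheaf.stalk p) := fun p =>
          have := hVn p.1 (hUV p.2)
          IsIntegrallyClosed.of_equiv (Scheme.Opens.stalkIso U p).commRingCatIsoToRingEquiv.symm
        have hic : IsIntegrallyClosed Γ(X, U) := by
          have : IsAffine (U : Scheme.{u}) := hU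
          have : Nonempty (⊤ : (U : Scheme.{u}).Opens) := ⟨⟨⟨x, hxU⟩, trivial⟩⟩
          have h1 := H8Lim.isIntegrallyClosed_of_isAffineOpen hN (isAffineOpen_top (U : Scheme.{u}))
          exact IsIntegrallyClosed.of_equiv (Scheme.Opens.topIso U).commRingCatIsoToRingEquiv
        have := functionField_isFractionRing_of_isAffineOpen X U hU
        obtain ⟨a, ha⟩ := (isIntegrallyClosed_iff (R := Γ(X, U)) X.functionField).1 hic hint
        exact ⟨a, CAlgSmall.NormalFactor.nK_inj U hU ((CAlgSmall.NormalFactor.nK_app U hU a).trans ha)⟩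
    rw [morphismRestrict_comp]
    have h2 : IsIso (e.hom ∣_ Curv2.normalizationι X ⁻¹ᵁ U) :=
      IsZariskiLocalAtTarget.restrict (P := MorphismProperty.isomorphisms Scheme) (f := e.hom)
        (inferInstanceAs (IsIso e.hom)) _
    exact @IsIso.comp_isIso _ _ _ _ _ _ _ h2 this
  · rintro ⟨hY, hf, U, hUd, hd, hiso⟩
    have := hiso
    let g := f ∣_ U
    have hne : (U : Set X).Nonempty := hUd.nonempty
    have hηU : genericPoint X ∈ U := (genericPoint_specializes _).mem_open U.2 hne.some_mem
    have hbij : Function.Bijective g.base := ConcreteCategory.bijective_of_isIso g.base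
    have hirrU : IrreducibleSpace U := by
      have h : IsPreirreducible (U : Set X) :=
        (IrreducibleSpace.isIrreducible_univ X).2.open_subset U.2 (Set.subset_univ _)
      have := (Subtype.irreducibleSpace ⟨hne, h⟩)
      exact this
    have hpU : IsIrreducible ((f ⁻¹ᵁ U : Y.Opens) : Set Y) := by
      have : IrreducibleSpace ↥(U : Scheme.{u}) := hirrU
      have h1 := ((IrreducibleSpace.isIrreducible_univ ↥(U : Scheme.{u})).image (inv g).base
        (inv g).continuous.continuousOn).image (f ⁻¹ᵁ U).ι.base (f ⁻¹ᵁ U).ι.continuous.continuousOn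
      rwa [Set.image_univ, Set.range_eq_univ.2 (ConcreteCategory.bijective_of_isIso (inv g).base).2,
        Set.image_univ, Scheme.Opens.range_ι] at h1
    have hirr : IrreducibleSpace Y := by
      have hu : IsIrreducible (Set.univ : Set Y) := hd.closure_eq ▸ hpU.closure
      exact (irreducibleSpace_def Y).2 hu
    obtain ⟨⟨y₀, hy₀⟩, hy₀'⟩ := hbij.2 ⟨genericPoint X, hηU⟩
    have hy₀'' : f y₀ = genericPoint X := (morphismRestrict_base_coe f U ⟨y₀, hy₀⟩).symm.trans (congrArg Subtype.val hy₀')
    have hη : f (genericPoint Y) = genericPoint X :=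
      ((hy₀'' ▸ (genericPoint_specializes y₀).map f.continuous).antisymm (genericPoint_specializes _)).eq
    have hgY : genericPoint Y ∈ f ⁻¹ᵁ U := show f (genericPoint Y) ∈ U from hη ▸ hηU
    refine (iff f).2 ⟨hY, hf, hirr, ?_, ?_⟩
    · ext y
      refine ⟨fun hy => ?_, fun hy => hy ▸ hη⟩
      have hyU : y ∈ f ⁻¹ᵁ U := show f y ∈ U from (show f y = genericPoint X from hy) ▸ hηU
      exact congrArg Subtype.val (hbij.1 (a₁ := ⟨y, hyU⟩) (a₂ := ⟨_, hgY⟩)
        (Subtype.ext ((morphismRestrict_base_coe f U ⟨y, hyU⟩).trans (((show f y = genericPoint X from hy).trans hη.symm).trans (morphismRestrict_base_coe f U ⟨_, hgY⟩).symm))))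
    · exact ((MorphismProperty.isomorphisms CommRingCat).arrow_mk_iso_iff
        (morphismRestrictStalkMap f U ⟨_, hgY⟩)).1 (MorphismProperty.isomorphisms.infer_property _)

end Groth.Agent.NormCrit3
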